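import Groth.Agent.Lib.SGA7Torsion.Infinitesimal
import Groth.Agent.Lib.AlgEquiv22.Dense
import Groth.Agent.Lib.TateTors22.BaseChange
import Mathlib.RingTheory.Filtration

/-!
Scheme-theoretic density of the prime-power torsion subgroup schemes, any characteristic.
-/

universe u

open CategoryTheory Limits MonoidalCategory CartesianMonoidalCategory AlgebraicGeometry MonObj
open scoped GrpObj

set_option linter.style.haveILetI false
set_option backward.isDefEq.respectTransparency false

noncomputable section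

namespace Groth.Agent.TorsDense22

open SGA7Torsion

/-- Points congruent to the identity modulo a square-zero ideal are killed by the characteristic. -/
theorem pow_eq_one_of_sq {R : Type u} [CommRing R] {B : Over (Spec (CommRingCat.of R))} [GrpObj B]
    {W : Type u} [CommRing W] [IsLocalRing W] [Algebra R W] (I : Ideal W)
    (hI : ∀ a ∈ I, ∀ b ∈ I, a * b = 0) (d : specOver R W ⟶ B) (n : ℕ) (hn : (n : W) = 0)
    (hc : specHom (Ideal.Quotient.mkₐ R I) ≫ d = 1) : d ^ n = 1 := by
  obtain ⟨U, hU, hxU, -⟩ := exists_isAffineOpen_mem_and_subset (U := ⊤)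
    (x := (1 : specOver R W ⟶ B).left (IsLocalRing.closedPoint W)) trivial
  let α : R →+* Γ(B.left, U) := (Spec.preimage (hU.fromSpec ≫ B.hom)).hom
  algebraize [α]
  have hα : Spec.map (CommRingCat.ofHom (algebraMap R Γ(B.left, U))) = hU.fromSpec ≫ B.hom :=
    Spec.map_preimage _
  let j : specOver R Γ(B.left, U) ⟶ B := Over.homMk hU.fromSpec hα.symm
  haveI : IsOpenImmersion j.left := inferInstanceAs (IsOpenImmersion hU.fromSpec)
  have hrange : Set.range j.left = (U : Set B.left) := hU.range_fromSpec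
  have h1U : Set.range (1 : specOver R W ⟶ B).left ⊆ U := range_subset_open _ U hxU
  have hdU : Set.range d.left ⊆ U := by
    refine (range_subset_of_sq (Ideal.Quotient.mkₐ R I) Ideal.Quotient.mk_surjective (fun a ha => ?_) d).trans ?_
    · exact ⟨2, by
        rw [pow_two]
        exact hI _ (Ideal.Quotient.eq_zero_iff_mem.1 ha) _ (Ideal.Quotient.eq_zero_iff_mem.1 ha)⟩
    · rw [hc, ← MonObj.comp_one (specHom (Ideal.Quotient.mkₐ R I)), Over.comp_left, Scheme.Hom.comp_base,
        TopCat.coe_comp]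
      exact (Set.range_comp_subset_range _ _).trans h1U
  obtain ⟨ψ, hψ⟩ := exists_chartPt j d (hrange ▸ hdU)
  obtain ⟨ε, hε⟩ := exists_chartPt j (1 : specOver R W ⟶ B) (hrange ▸ h1U)
  let δ : Γ(B.left, U) →ₗ[R] W := ψ.toLinearMap - ε.toLinearMap
  have hδ : ∀ c, δ c ∈ I := by
    have e : chartPt j ((Ideal.Quotient.mkₐ R I).comp ψ) = chartPt j ((Ideal.Quotient.mkₐ R I).comp ε) := by
      rw [← specHom_chartPt, ← specHom_chartPt, ← hψ, ← hε, hc, MonObj.comp_one]
    intro c
    exact (Ideal.Quotient.mk_eq_mk_iff_sub_mem _ _).mp (DFunLike.congr_fun (chartPt_injective j e) c)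
  have hL : ∀ c e, δ (c * e) = ε c * δ e + ε e * δ c := by
    intro c e
    have h0 := hI _ (hδ c) _ (hδ e)
    simp only [δ, LinearMap.sub_apply, AlgHom.toLinearMap_apply, map_mul] at h0 ⊢
    linear_combination h0
  have h1 : δ 1 = 0 := by simp [δ]
  rw [pow_eq_chartPt I hI ε δ hδ hL h1 j hε.symm d ψ (fun c => by simp [δ]) hψ n, hε]
  congr 1
  refine AlgHom.ext fun c => ?_
  rw [AlgHom.comp_apply, sumMap_deform_apply, add_zero, nsmul_eq_mul, hn, zero_mul, add_zero]

variable {k : Type u} [Field k] {X : Over (Spec (CommRingCat.of k))} [GrpObj X] [IsProper X.hom]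
  [GeometricallyIntegral X.hom]

/-- the condition that a closed subscheme contains all `p`-power torsion subschemes -/
abbrev ContainsTors (p : ℕ) {Z : Scheme.{u}} (c : Z ⟶ X.left) : Prop :=
  ∀ m : ℕ, 0 < m →
    ∃ t : pullback η[X].left ((𝟙 X ^ (p ^ m)).left) ⟶ Z,
      t ≫ c = pullback.snd η[X].left ((𝟙 X ^ (p ^ m)).left)

omit [IsProper X.hom] [GeometricallyIntegral X.hom] in
theorem exists_lift_of_pow_eq_one {p : ℕ} {Z : Scheme.{u}} {c : Z ⟶ X.left} (hc : ContainsTors p c)
    {T : Over (Spec (CommRingCat.of k))} (d : T ⟶ X) {m : ℕ} (hm : 0 < m) (hd : d ^ (p ^ m) = 1) :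
    ∃ y : T.left ⟶ Z, y ≫ c = d.left := by
  obtain ⟨t, ht⟩ := hc m hm
  have e : d ≫ (𝟙 X ^ (p ^ m)) = toUnit T ≫ η[X] := by
    rw [MonObj.comp_pow, Category.comp_id, hd]
    rfl
  exact ⟨pullback.lift (toUnit T).left d.left (congrArg CommaMorphism.left e).symm ≫ t, by
    rw [Category.assoc, ht, pullback.lift_snd]⟩

omit [GeometricallyIntegral X.hom] in
theorem mem_range_generic_of_char [IsIntegral X.left] {p : ℕ} (hp : (p : k) = 0) {Z : Scheme.{u}}
    (c : Z ⟶ X.left) [IsClosedImmersion c] (hc : ContainsTors p c) :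
    genericPoint X.left ∈ Set.range c := by
  haveI : IsLocallyNoetherian X.left := LocallyOfFiniteType.isLocallyNoetherian X.hom
  let x : X.left := η[X].left (IsLocalRing.closedPoint k)
  let O := X.left.presheaf.stalk x
  let ev : O ⟶ CommRingCat.of k := Scheme.stalkClosedPointTo η[X].left
  haveI : IsLocalHom ev.hom := inferInstanceAs (IsLocalHom (Scheme.stalkClosedPointTo η[X].left).hom)
  let α : CommRingCat.of k ⟶ O := Spec.preimage (X.left.fromSpecStalk x ≫ X.hom)
  have hα : Spec.map α = X.left.fromSpecStalk x ≫ X.hom := Spec.map_preimage _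
  letI : Algebra k O := α.hom.toAlgebra
  have hev : Spec.map ev ≫ X.left.fromSpecStalk x = η[X].left :=
    Scheme.Spec_stalkClosedPointTo_fromSpecStalk η[X].left
  have hαev : α ≫ ev = 𝟙 _ := Spec.map_injective (by
    rw [Spec.map_comp, hα, ← Category.assoc, hev, Spec.map_id]
    exact Over.w η[X])
  let dO : specOver k O ⟶ X := Over.homMk (X.left.fromSpecStalk x) hα.symm
  let m := IsLocalRing.maximalIdeal O
  let d : ℕ → ∀ (W : Type u) [CommRing W] [Algebra k W], (O →ₐ[k] W) → (specOver k W ⟶ X) :=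
    fun _ W _ _ f => specHom f ≫ dO
  haveI : ∀ N, Nontrivial (O ⧸ m ^ (N + 1)) := fun N =>
    Ideal.Quotient.nontrivial_iff.2
      (ne_top_of_le_ne_top (IsLocalRing.maximalIdeal.isMaximal O).ne_top (Ideal.pow_le_self N.succ_ne_zero))
  haveI : ∀ N, IsLocalRing (O ⧸ m ^ (N + 1)) := fun N =>
    IsLocalRing.of_surjective' (Ideal.Quotient.mk _) Ideal.Quotient.mk_surjective
  have key : ∀ N, (specHom (Ideal.Quotient.mkₐ k (m ^ (N + 1))) ≫ dO) ^ (p ^ N) = 1 := by
    intro N
    induction N with
    | zero =>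
      rw [pow_zero, pow_one (specHom (Ideal.Quotient.mkₐ k (m ^ (0 + 1))) ≫ dO)]
      apply Over.OverMorphism.ext
      let q : O ⟶ CommRingCat.of (O ⧸ m ^ (0 + 1)) := CommRingCat.ofHom (Ideal.Quotient.mk _)
      have hh : q = ev ≫ α ≫ q := by
        ext a
        have h1 : a - α.hom (ev.hom a) ∈ m := fun hu => not_isUnit_zero (by
          have h0 : ev.hom (a - α.hom (ev.hom a)) = 0 := by
            rw [map_sub, show ev.hom (α.hom (ev.hom a)) = ev.hom a from
              congrArg (fun g => g.hom (ev.hom a)) hαev, sub_self]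
          exact h0 ▸ hu.map ev.hom)
        exact (Ideal.Quotient.mk_eq_mk_iff_sub_mem _ _).2 (by rwa [pow_one])
      change Spec.map q ≫ X.left.fromSpecStalk x = (toUnit (specOver k (O ⧸ m ^ (0 + 1))) ≫ η[X]).left
      rw [hh, Spec.map_comp, Category.assoc, hev]
      change Spec.map (α ≫ q) ≫ η[X].left = _
      rfl
    | succ N ih =>
      let J := m ^ (N + 1 + 1)
      let I : Ideal (O ⧸ J) := (m ^ (N + 1)).map (Ideal.Quotient.mk J)
      have hI : ∀ a ∈ I, ∀ b ∈ I, a * b = 0 := by
        intro a ha b hb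
        obtain ⟨a', ha', rfl⟩ := (Ideal.mem_map_iff_of_surjective _ Ideal.Quotient.mk_surjective).mp ha
        obtain ⟨b', hb', rfl⟩ := (Ideal.mem_map_iff_of_surjective _ Ideal.Quotient.mk_surjective).mp hb
        rw [← map_mul, Ideal.Quotient.eq_zero_iff_mem]
        have h2 := Ideal.mul_mem_mul ha' hb'
        rw [← pow_add] at h2
        exact Ideal.pow_le_pow_right (by omega) h2
      rw [pow_succ p N, pow_mul]
      refine pow_eq_one_of_sq I hI _ p ?_ ?_
      · rw [← map_natCast (algebraMap k (O ⧸ J)) p, hp, map_zero]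
      · let g : O ⧸ m ^ (N + 1) →ₐ[k] (O ⧸ J) ⧸ I :=
          Ideal.Quotient.liftₐ _ ((Ideal.Quotient.mkₐ k I).comp (Ideal.Quotient.mkₐ k J)) fun a ha =>
            Ideal.Quotient.eq_zero_iff_mem.2 (Ideal.mem_map_of_mem _ ha)
        have hg : (Ideal.Quotient.mkₐ k I).comp (Ideal.Quotient.mkₐ k J) = g.comp (Ideal.Quotient.mkₐ k _) :=
          AlgHom.ext fun _ => rfl
        rw [MonObj.comp_pow, ← Category.assoc, ← specHom_comp, hg, specHom_comp, Category.assoc,
          ← MonObj.comp_pow, ih, MonObj.comp_one]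
  obtain ⟨U, hU, hxU, -⟩ := exists_isAffineOpen_mem_and_subset (U := ⊤) (x := x) trivial
  have hker : c.ker.ideal ⟨U, hU⟩ = ⊥ := by
    rw [Scheme.Hom.ker_apply, eq_bot_iff]
    intro a ha
    haveI : Nonempty U := ⟨⟨x, hxU⟩⟩
    refine Ideal.mem_bot.2 ((injective_iff_map_eq_zero _).1 (germ_injective_of_isIntegral X.left x hxU) a ?_)
    refine Ideal.mem_bot.1 ((Ideal.iInf_pow_eq_bot_of_isLocalRing m (IsLocalRing.maximalIdeal.isMaximal O).ne_top) ▸ ?_)
    refine Ideal.mem_iInf.2 fun N => Ideal.pow_le_pow_right (Nat.le_succ N) ?_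
    have hd1 : (specHom (Ideal.Quotient.mkₐ k (m ^ (N + 1))) ≫ dO) ^ (p ^ (N + 1)) = 1 := by
      rw [pow_succ p N, pow_mul, key N, one_pow]
    obtain ⟨y, hy⟩ := exists_lift_of_pow_eq_one hc _ N.succ_pos hd1
    let q : O ⟶ CommRingCat.of (O ⧸ m ^ (N + 1)) := CommRingCat.ofHom (Ideal.Quotient.mk _)
    let h' := Spec.map q ≫ X.left.fromSpecStalk x
    have h0 : h'.app U a = 0 := by
      have e : y ≫ c = h' := hy
      rw [← e, Scheme.Hom.comp_app]
      exact (congrArg (y.app _) (RingHom.mem_ker.1 ha)).trans (map_zero _)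
    refine Ideal.Quotient.eq_zero_iff_mem.1 ?_
    change q (X.left.presheaf.germ U x hxU a) = 0
    have htop : (h' ⁻¹ᵁ U : (Spec (CommRingCat.of (O ⧸ m ^ (N + 1)))).Opens) = ⊤ := by
      refine top_le_iff.1 fun z _ => ?_
      show X.left.fromSpecStalk x _ ∈ U
      exact ((IsLocalRing.specializes_closedPoint ((Spec.map q) z)).map (X.left.fromSpecStalk x).continuous).mem_open U.isOpen
        (by rwa [Scheme.fromSpecStalk_closedPoint])
    apply (ConcreteCategory.bijective_of_isIso
      ((Scheme.ΓSpecIso (CommRingCat.of (O ⧸ m ^ (N + 1)))).inv ≫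
        (Spec (CommRingCat.of (O ⧸ m ^ (N + 1)))).presheaf.map (eqToHom htop).op)).1
    rw [map_zero]
    refine Eq.trans ?_ h0
    simp only [h', Scheme.Hom.comp_app, Scheme.fromSpecStalk_app hxU]
    simp [← Scheme.ΓSpecIso_inv_naturality_assoc]
    rfl
  have hgen : genericPoint X.left ∈ U :=
    ((genericPoint_spec X.left).mem_open_set_iff U.isOpen).2 (by simpa using ⟨x, hxU⟩)
  have h := Scheme.IdealSheafData.coe_support_inter c.ker ⟨U, hU⟩
  rw [hker] at h
  have h2 : genericPoint X.left ∈ (c.ker.support : Set X.left) := by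
    have : genericPoint X.left ∈ X.left.zeroLocus (U := U) ((⊥ : Ideal Γ(X.left, U)) : Set Γ(X.left, U)) ∩ U := by
      refine ⟨?_, hgen⟩
      simp [Scheme.zeroLocus]
    exact (h.ge this).1
  rwa [Scheme.Hom.support_ker, c.isClosedEmbedding.isClosed_range.closure_eq] at h2

theorem surjective_of_ne_zero {p : ℕ} (hp : p.Prime) (hp' : (p : k) ≠ 0) {Z : Scheme.{u}}
    (c : Z ⟶ X.left) [IsClosedImmersion c] (hc : ContainsTors p c) : Surjective c := by
  let K := AlgebraicClosure k
  let s := Spec.map (CommRingCat.ofHom (algebraMap k K))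
  let F := Over.pullback s
  letI gX : GrpObj (F.obj X) := Functor.grpObjObj
  haveI : IsProper (F.obj X).hom := inferInstanceAs (IsProper (pullback.snd X.hom s))
  haveI : GeometricallyIntegral (F.obj X).hom := inferInstanceAs (GeometricallyIntegral (pullback.snd X.hom s))
  haveI : IsCommMonObj (F.obj X) := isCommMonObj_of_isProper_of_geometricallyIntegral _
  have hd := AlgEquiv22.dense_primePowTorsion (A := F.obj X) hp.one_lt
    (show (p : K) ≠ 0 by rw [← map_natCast (algebraMap k K)]; exact (map_ne_zero _).2 hp')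
  haveI : Surjective s :=
    ⟨fun x => ⟨IsLocalRing.closedPoint K, Subsingleton.elim (α := Spec (CommRingCat.of k)) _ _⟩⟩
  let pr : (F.obj X).left ⟶ X.left := pullback.fst X.hom s
  haveI : Surjective pr := MorphismProperty.pullback_fst _ _ ‹Surjective s›
  refine ⟨fun v => ?_⟩
  obtain ⟨w, rfl⟩ := pr.surjective v
  refine (closure_minimal ?_ (c.isClosedEmbedding.isClosed_range.preimage pr.continuous) :
    closure _ ⊆ pr ⁻¹' Set.range c) (hd.ge (Set.mem_univ w))
  rintro _ ⟨a, ⟨n, hn⟩, rfl⟩
  let T : Over (Spec (CommRingCat.of k)) := Over.mk (a.left ≫ pr ≫ X.hom)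
  let d : T ⟶ X := Over.homMk (a.left ≫ pr) (Category.assoc _ _ _)
  have h1 : a ≫ F.map (𝟙 X ^ (p ^ (n + 1))) = a ≫ F.map 1 := by
    rw [TateTors22.map_mul_pow, CategoryTheory.Functor.map_id, MonObj.comp_pow, Category.comp_id, pow_succ,
      pow_mul, hn, one_pow, Functor.map_one, MonObj.comp_one]
  have h2 : d ^ (p ^ (n + 1)) = 1 := by
    rw [← Category.comp_id d, ← MonObj.comp_pow, ← MonObj.comp_one d (Y := X)]
    apply Over.OverMorphism.ext
    have h3 := congrArg (fun g => g.left ≫ pullback.fst X.hom s) h1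
    simp only [F, Over.comp_left, Category.assoc, Over.pullback_map_left, pullback.lift_fst] at h3
    rw [Over.comp_left, Over.comp_left]
    exact (Category.assoc _ _ _).trans (h3.trans (Category.assoc _ _ _).symm)
  obtain ⟨y, hy⟩ := exists_lift_of_pow_eq_one hc d n.succ_pos h2
  refine ⟨y (IsLocalRing.closedPoint K), ?_⟩
  rw [← Scheme.Hom.comp_apply, hy]
  rfl

theorem isIso_of_containsTors {p : ℕ} (hp : p.Prime) {Z : Scheme.{u}}
    (c : Z ⟶ X.left) [IsClosedImmersion c] (hc : ContainsTors p c) : IsIso c := by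
  haveI : IsIntegral X.left := GeometricallyIntegral.isIntegral_of_subsingleton X.hom
  haveI : Surjective c := by
    by_cases h : (p : k) = 0
    · refine ⟨fun v => ?_⟩
      exact ((genericPoint_spec X.left).specializes (Set.mem_univ v)).mem_closed
        c.isClosedEmbedding.isClosed_range (mem_range_generic_of_char h c hc)
    · exact surjective_of_ne_zero hp h c hc
  exact isIso_of_isClosedImmersion_of_surjective c

end Groth.Agent.TorsDense22

end
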